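import Groth.Agent.Lib.DClosed.Basic
import Groth.Agent.Lib.GrpSch.SmoothReduced
import Groth.Agent.H34.Stein.FiniteEtale
import Groth.Agent.S3701
import Mathlib.RingTheory.Unramified.Basic
import Mathlib.RingTheory.Kaehler.Basic

/-!
Relative global functions of proper smooth morphisms are killed by the differential.
-/

set_option autoImplicit false

noncomputable section

universe u

open CategoryTheory CategoryTheory.Limits AlgebraicGeometry Opposite TopologicalSpace

namespace Groth.Agent.Lib.DClosedRel.Basic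

open Groth.Agent.Lib.Kaehler.Basic

/-- Derivations over the base kill formally unramified subalgebras. -/
theorem der_eq_zero {R E B M : Type u} [CommRing R] [CommRing E] [Algebra R E] [Algebra.FormallyUnramified R E]
    [CommRing B] [AddCommGroup M] [Module B M] (ρ : E →+* B) (D : B →+ M)
    (hmul : ∀ a b, D (a * b) = a • D b + b • D a) (hc : ∀ r : R, D (ρ (algebraMap R E r)) = 0) (x : E) :
    D (ρ x) = 0 := by
  let _ : Module E M := Module.compHom M ρ
  let _ : Module R M := Module.compHom M (ρ.comp (algebraMap R E))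
  have : IsScalarTower R E M := ⟨fun r a m => by
    show ρ (r • a) • m = ρ (algebraMap R E r) • (ρ a • m)
    rw [Algebra.smul_def, map_mul, mul_smul]⟩
  let δ : E →ₗ[R] M :=
    { toFun := fun a => D (ρ a)
      map_add' := fun a b => by simp
      map_smul' := fun r a => by
        show D (ρ (r • a)) = ρ (algebraMap R E r) • D (ρ a)
        rw [Algebra.smul_def, map_mul, hmul, hc, smul_zero, add_zero] }
  let d : Derivation R E M :=
    { δ with
      map_one_eq_zero' := by
        show D (ρ 1) = 0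
        rw [← map_one (algebraMap R E)]
        exact hc 1
      leibniz' := fun a b => by
        show D (ρ (a * b)) = ρ a • D (ρ b) + ρ b • D (ρ a)
        rw [map_mul, hmul] }
  have h : d x = 0 := by
    have e := d.liftKaehlerDifferential_comp_D x
    rw [← e, Subsingleton.elim (KaehlerDifferential.D R E x) 0, map_zero]
  exact h

theorem der_app_eq_zero {X S : Scheme.{u}} (f : X ⟶ S) [IsProper f] [Smooth f] {F : X.Modules}
    (D : OmegaSh.Der f F) (V : S.Opens) (s : Γ(X, f ⁻¹ᵁ V)) : D.app (f ⁻¹ᵁ V) s = 0 := by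
  have hgr : ∀ (Ω : Type u) [Field Ω] [IsAlgClosed Ω] (σ : Spec (CommRingCat.of Ω) ⟶ S),
      IsReduced (pullback f σ) := fun Ω _ _ σ => by
    have : Smooth (pullback.snd f σ) := MorphismProperty.pullback_snd f σ inferInstance
    exact GrpSch.isReduced_of_smooth_field (pullback.snd f σ)
  obtain ⟨-, hπ⟩ := Groth.Agent.S3701.result f hgr
  have hc : ∀ x : (f ⁻¹ᵁ V : X.Opens), ∃ (V' : S.Opens) (U : X.Opens), IsAffineOpen V' ∧ V' ≤ V ∧ x.1 ∈ U ∧
      U ≤ f ⁻¹ᵁ V' := fun x => by
    obtain ⟨V', hV', hxV', hle⟩ := exists_isAffineOpen_mem_and_subset (X := S) (x := f x.1) (U := V) x.2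
    exact ⟨V', f ⁻¹ᵁ V', hV', hle, hxV', le_rfl⟩
  choose V' U' hV' hle hxU hUV using hc
  refine TopCat.Sheaf.eq_of_locally_eq' (⟨F.presheaf, F.isSheaf⟩ : TopCat.Sheaf Ab.{u} X)
    U' (f ⁻¹ᵁ V) (fun x => homOfLE ((hUV x).trans (f.preimage_mono (hle x))))
    (fun y hy => Opens.mem_iSup.2 ⟨⟨y, hy⟩, hxU ⟨y, hy⟩⟩) _ _ fun x => ?_
  erw [map_zero]
  change F.presheaf.map (homOfLE ((hUV x).trans (f.preimage_mono (hle x)))).op (D.app _ s) = 0
  rw [← der_app_map D ((hUV x).trans (f.preimage_mono (hle x))) s]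
  suffices key : ∀ (W : S.Opens) (hW : IsAffineOpen W) (U : X.Opens) (e : U ≤ f ⁻¹ᵁ W) (a : Γ(X, f ⁻¹ᵁ W)),
      D.app U (X.presheaf.map (homOfLE e).op a) = 0 by
    have h := key (V' x) (hV' x) (U' x) (hUV x) (X.presheaf.map (homOfLE (f.preimage_mono (hle x))).op s)
    rwa [← CommRingCat.comp_apply, ← Functor.map_comp] at h
  clear! x
  intro W hW U e a
  let _ := (f.app W).hom.toAlgebra
  let E := integralClosure Γ(S, W) Γ(X, f ⁻¹ᵁ W)
  have het : (algebraMap Γ(S, W) E).Etale := by
    have h1 : (f.fromNormalization.app W).hom.Etale := by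
      have := hπ
      have hWn : IsAffineOpen (f.fromNormalization ⁻¹ᵁ W) := hW.preimage f.fromNormalization
      have h2 := f.fromNormalization.etale_appLE hW hWn le_rfl
      rwa [Scheme.Hom.appLE_eq_app] at h2
    rw [Scheme.Hom.fromNormalization_app f hW] at h1
    exact (RingHom.Etale.respectsIso.cancel_right_isIso (CommRingCat.ofHom (algebraMap Γ(S, W) E))
      (f.normalizationObjIso hW).inv).1 h1
  rw [RingHom.etale_algebraMap] at het
  have hint : IsIntegral Γ(S, W) a := by
    have := hW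
    have : IsAffine (W : Scheme.{u}) := hW
    have : UniversallyClosed (f ∣_ W) := inferInstance
    have h1 := isIntegral_appTop_of_universallyClosed (f ∣_ W)
    have h2 : (f ∣_ W).appTop = W.topIso.hom ≫ f.app W ≫ (f ⁻¹ᵁ W).topIso.inv := by
      simp [Scheme.Hom.appTop, morphismRestrict_app, Scheme.Hom.app_eq_appLE]
      erw [Scheme.Hom.appLE_map, Scheme.Hom.map_appLE]
    obtain ⟨P, hPm, hP⟩ := h1 ((f ⁻¹ᵁ W).topIso.inv a)
    refine ⟨P.map W.topIso.hom.hom, hPm.map _, ?_⟩
    rw [Polynomial.eval₂_map]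
    have h3 := congrArg (f ⁻¹ᵁ W).topIso.hom.hom hP
    rw [Polynomial.hom_eval₂, map_zero, h2] at h3
    refine Eq.trans ?_ h3
    congr 1
    · ext c
      exact (ConcreteCategory.congr_hom (f ⁻¹ᵁ W).topIso.inv_hom_id (f.app W (W.topIso.hom c))).symm
    · exact (ConcreteCategory.congr_hom (f ⁻¹ᵁ W).topIso.inv_hom_id a).symm
  exact der_eq_zero (R := Γ(S, W)) (E := E) ((X.presheaf.map (homOfLE e).op).hom.comp E.val.toRingHom)
    (AddMonoidHom.mk' (fun z => D.app U z) fun x y => map_add _ x y) (der_app_mul D U)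
    (fun r => der_app_appLE D W U e r) ⟨a, hint⟩

end Groth.Agent.Lib.DClosedRel.Basic
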